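import Mathlib
import Groth.Prelude.Def_ActBC

/-!
# Agreement on the double base change, in points
-/

set_option autoImplicit false
set_option backward.isDefEq.respectTransparency false

universe u

open CategoryTheory CategoryTheory.Limits AlgebraicGeometry

namespace Groth.Agent.H18BLMor

variable {S S₁ S₂ S₃ : Scheme.{u}} (jt : S₁ ⟶ S) (jφ : S₂ ⟶ S) (au : S₃ ⟶ S₁) (av : S₃ ⟶ S₂)
  (h : au ≫ jt = av ≫ jφ) {P Q : Over S}

theorem agree_points (e₁ : Red.bc jt P ⟶ Red.bc jt Q) (e₂ : Red.bc jφ P ⟶ Red.bc jφ Q)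
    (hagree : (Over.pullback au).map e₁ ≫ (ActBC.bcCompIso au jt Q h).hom =
      (ActBC.bcCompIso au jt P h).hom ≫ (ActBC.bcCompIso av jφ P rfl).inv ≫
        (Over.pullback av).map e₂ ≫ (ActBC.bcCompIso av jφ Q rfl).hom)
    {W : Scheme.{u}} (x₁ : W ⟶ pullback P.hom jt) (x₂ : W ⟶ pullback P.hom jφ) (k : W ⟶ S₃)
    (h₁ : x₁ ≫ pullback.fst _ _ = x₂ ≫ pullback.fst _ _) (h₂ : x₁ ≫ pullback.snd _ _ = k ≫ au)
    (h₃ : x₂ ≫ pullback.snd _ _ = k ≫ av) :
    x₁ ≫ e₁.left ≫ pullback.fst _ _ = x₂ ≫ e₂.left ≫ pullback.fst _ _ := by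
  let q : W ⟶ pullback (Red.bc jt P).hom au := pullback.lift x₁ k h₂
  let r : W ⟶ pullback (Red.bc jφ P).hom av := pullback.lift x₂ k h₃
  have hL : ((Over.pullback au).map e₁ ≫ (ActBC.bcCompIso au jt Q h).hom).left ≫ pullback.fst Q.hom (av ≫ jφ) =
      pullback.fst (Red.bc jt P).hom au ≫ e₁.left ≫ pullback.fst Q.hom jt := by
    rw [Over.comp_left, Category.assoc, ActBC.bcCompIso_hom_left_fst, ← Category.assoc,
      ActBC.pullback_map_left_fst, Category.assoc]
  have hR : ((Over.pullback av).map e₂ ≫ (ActBC.bcCompIso av jφ Q rfl).hom).left ≫ pullback.fst Q.hom (av ≫ jφ) =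
      pullback.fst (Red.bc jφ P).hom av ≫ e₂.left ≫ pullback.fst Q.hom jφ := by
    rw [Over.comp_left, Category.assoc, ActBC.bcCompIso_hom_left_fst, ← Category.assoc,
      ActBC.pullback_map_left_fst, Category.assoc]
  have hr : q ≫ (ActBC.bcCompIso au jt P h).hom.left = r ≫ (ActBC.bcCompIso av jφ P rfl).hom.left := by
    apply pullback.hom_ext
    · rw [Category.assoc, Category.assoc, ActBC.bcCompIso_hom_left_fst, ActBC.bcCompIso_hom_left_fst,
        pullback.lift_fst_assoc, pullback.lift_fst_assoc]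
      exact h₁
    · rw [Category.assoc, Category.assoc]
      exact ((congrArg (q ≫ ·) (Over.w (ActBC.bcCompIso au jt P h).hom)).trans (pullback.lift_snd _ _ _)).trans
        ((congrArg (r ≫ ·) (Over.w (ActBC.bcCompIso av jφ P rfl).hom)).trans (pullback.lift_snd _ _ _)).symm
  have key : q ≫ (ActBC.bcCompIso au jt P h).hom.left ≫ (ActBC.bcCompIso av jφ P rfl).inv.left = r := by
    rw [← Category.assoc, hr, Category.assoc, ← Over.comp_left, Iso.hom_inv_id]
    exact Category.comp_id _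
  calc x₁ ≫ e₁.left ≫ pullback.fst _ _
      = q ≫ pullback.fst (Red.bc jt P).hom au ≫ e₁.left ≫ pullback.fst Q.hom jt :=
        ((Category.assoc _ _ _).symm.trans (congrArg (· ≫ _) (pullback.lift_fst _ _ _))).symm
    _ = q ≫ ((Over.pullback au).map e₁ ≫ (ActBC.bcCompIso au jt Q h).hom).left ≫ pullback.fst Q.hom (av ≫ jφ) := by
        rw [hL]
    _ = (q ≫ (ActBC.bcCompIso au jt P h).hom.left ≫ (ActBC.bcCompIso av jφ P rfl).inv.left) ≫
        ((Over.pullback av).map e₂ ≫ (ActBC.bcCompIso av jφ Q rfl).hom).left ≫ pullback.fst Q.hom (av ≫ jφ) := by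
        rw [hagree, Over.comp_left, Over.comp_left]
        simp only [Category.assoc]
    _ = r ≫ pullback.fst (Red.bc jφ P).hom av ≫ e₂.left ≫ pullback.fst Q.hom jφ := by rw [key, hR]
    _ = x₂ ≫ e₂.left ≫ pullback.fst _ _ :=
        (Category.assoc _ _ _).symm.trans (congrArg (· ≫ _) (pullback.lift_fst _ _ _))

end Groth.Agent.H18BLMor
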