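import Mathlib

/-!
# Gluing morphisms from flat schemes along an exact square of rings
-/

set_option autoImplicit false
set_option linter.style.haveILetI false
set_option backward.isDefEq.respectTransparency false

universe u

open CategoryTheory CategoryTheory.Limits AlgebraicGeometry TensorProduct

namespace Groth.Agent.H18BLMor

variable {A A₁ A₂ A₃ : Type u} [CommRing A] [CommRing A₁] [CommRing A₂] [CommRing A₃]
  [Algebra A A₁] [Algebra A A₂] [Algebra A A₃]

/-- The square of rings is exact: `0 → A → A₁ × A₂ → A₃`. -/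
structure ExactSq (u : A₁ →ₐ[A] A₃) (v : A₂ →ₐ[A] A₃) : Prop where
  eq_zero : ∀ a : A, algebraMap A A₁ a = 0 → algebraMap A A₂ a = 0 → a = 0
  exists_lift : ∀ x y, u x = v y → ∃ a, algebraMap A A₁ a = x ∧ algebraMap A A₂ a = y

variable {u : A₁ →ₐ[A] A₃} {v : A₂ →ₐ[A] A₃}

theorem ExactSq.tensor (h : ExactSq u v) (M : Type u) [AddCommGroup M] [Module A M] [Module.Flat A M] :
    (∀ m : M, m ⊗ₜ[A] (1 : A₁) = 0 → m ⊗ₜ[A] (1 : A₂) = 0 → m = 0) ∧
    ∀ (x : M ⊗[A] A₁) (y : M ⊗[A] A₂), u.toLinearMap.lTensor M x = v.toLinearMap.lTensor M y →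
      ∃ m : M, m ⊗ₜ[A] (1 : A₁) = x ∧ m ⊗ₜ[A] (1 : A₂) = y := by
  let d : A →ₗ[A] A₁ × A₂ := (Algebra.linearMap A A₁).prod (Algebra.linearMap A A₂)
  let e : A₁ × A₂ →ₗ[A] A₃ := u.toLinearMap.comp (LinearMap.fst A A₁ A₂) - v.toLinearMap.comp (LinearMap.snd A A₁ A₂)
  have hd : Function.Injective d := (injective_iff_map_eq_zero d).2 fun a ha =>
    h.eq_zero a (congrArg Prod.fst ha) (congrArg Prod.snd ha)
  have hde : Function.Exact d e := fun p => by
    refine ⟨fun hp => ?_, ?_⟩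
    · obtain ⟨a, h1, h2⟩ := h.exists_lift p.1 p.2 (sub_eq_zero.1 hp)
      exact ⟨a, Prod.ext h1 h2⟩
    · rintro ⟨a, rfl⟩
      show u (algebraMap A A₁ a) - v (algebraMap A A₂ a) = 0
      rw [AlgHom.commutes, AlgHom.commutes, sub_self]
  have hinj : Function.Injective (d.lTensor M) := Module.Flat.lTensor_preserves_injective_linearMap d hd
  have hex : Function.Exact (d.lTensor M) (e.lTensor M) := Module.Flat.lTensor_exact M hde
  let j₁ : M ⊗[A] A₁ →ₗ[A] M ⊗[A] (A₁ × A₂) := (LinearMap.inl A A₁ A₂).lTensor M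
  let j₂ : M ⊗[A] A₂ →ₗ[A] M ⊗[A] (A₁ × A₂) := (LinearMap.inr A A₁ A₂).lTensor M
  have hd1 : ∀ m : M, d.lTensor M (m ⊗ₜ[A] (1 : A)) = j₁ (m ⊗ₜ 1) + j₂ (m ⊗ₜ 1) := fun m => by
    simp only [j₁, j₂, LinearMap.lTensor_tmul, ← TensorProduct.tmul_add]
    simp [d]
  have hp1 : ∀ x y, (LinearMap.fst A A₁ A₂).lTensor M (j₁ x + j₂ y) = x := fun x y => by
    simp only [j₁, j₂, map_add, ← LinearMap.comp_apply, ← LinearMap.lTensor_comp]
    simp
  have hp2 : ∀ x y, (LinearMap.snd A A₁ A₂).lTensor M (j₁ x + j₂ y) = y := fun x y => by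
    simp only [j₁, j₂, map_add, ← LinearMap.comp_apply, ← LinearMap.lTensor_comp]
    simp
  refine ⟨fun m h1 h2 => ?_, fun x y hxy => ?_⟩
  · have : d.lTensor M (m ⊗ₜ[A] (1 : A)) = 0 := by rw [hd1, h1, h2, map_zero, map_zero, add_zero]
    have h0 := congrArg (TensorProduct.rid A M) (hinj (this.trans (map_zero _).symm))
    simpa using h0
  · have : e.lTensor M (j₁ x + j₂ y) = 0 := by
      simp only [j₁, j₂, map_add, ← LinearMap.comp_apply, ← LinearMap.lTensor_comp]
      rw [show e.comp (LinearMap.inl A A₁ A₂) = u.toLinearMap from LinearMap.ext fun a => by simp [e],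
        show e.comp (LinearMap.inr A A₁ A₂) = -v.toLinearMap from LinearMap.ext fun a => by simp [e],
        LinearMap.lTensor_neg, LinearMap.neg_apply, hxy, add_neg_cancel]
    obtain ⟨z, hz⟩ := (hex _).1 this
    obtain ⟨m, rfl⟩ : ∃ m, m ⊗ₜ[A] (1 : A) = z := ⟨TensorProduct.rid A M z, (TensorProduct.rid A M).symm_apply_apply z⟩
    rw [hd1] at hz
    refine ⟨m, ?_, ?_⟩
    · have := congrArg ((LinearMap.fst A A₁ A₂).lTensor M) hz
      rwa [hp1, hp1] at this
    · have := congrArg ((LinearMap.snd A A₁ A₂).lTensor M) hz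
      rwa [hp2, hp2] at this

variable {Z : Scheme.{u}} (z : Z ⟶ Spec (CommRingCat.of A))

/-- The base change of `Z` to `A'`. -/
noncomputable abbrev pb (A' : Type u) [CommRing A'] [Algebra A A'] : Scheme.{u} :=
  pullback z (Spec.map (CommRingCat.ofHom (algebraMap A A')))

/-- An affine piece of `Z`, as a flat algebra. -/
structure Piece where
  M : Type u
  [ring : CommRing M]
  [alg : Algebra A M]
  [flat : Module.Flat A M]
  d : Spec (CommRingCat.of M) ⟶ Z
  [isOpen : IsOpenImmersion d]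
  hd : d ≫ z = Spec.map (CommRingCat.ofHom (algebraMap A M))

attribute [instance] Piece.ring Piece.alg Piece.flat Piece.isOpen

theorem exists_piece [Flat z] (x : Z) : ∃ D : Piece z, x ∈ Set.range D.d := by
  obtain ⟨V, hV, hxV, -⟩ := exists_isAffineOpen_mem_and_subset (U := (⊤ : Z.Opens)) (Set.mem_univ x)
  obtain ⟨α, hα⟩ := Spec.map_surjective (hV.fromSpec ≫ z)
  haveI : Flat (Spec.map α) := by rw [hα]; infer_instance
  letI : Algebra A Γ(Z, V) := α.hom.toAlgebra
  haveI : Module.Flat A Γ(Z, V) := RingHom.flat_algebraMap_iff.1 (Flat.SpecMap_iff.1 ‹Flat (Spec.map α)›)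
  exact ⟨{ M := Γ(Z, V), d := hV.fromSpec, hd := hα.symm }, hV.primeIdealOf ⟨x, hxV⟩, hV.fromSpec_primeIdealOf _⟩

variable {z}

/-- The piece over `A'`. -/
noncomputable def Piece.inc (D : Piece z) (A' : Type u) [CommRing A'] [Algebra A A'] :
    Spec (CommRingCat.of (D.M ⊗[A] A')) ⟶ pb z A' :=
  (pullbackSpecIso A D.M A').inv ≫
    pullback.map _ _ z _ D.d (𝟙 _) (𝟙 _) (by rw [Category.comp_id, D.hd]) (by simp)

@[reassoc]
theorem Piece.inc_fst (D : Piece z) (A' : Type u) [CommRing A'] [Algebra A A'] :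
    D.inc A' ≫ pullback.fst _ _ = Spec.map (CommRingCat.ofHom Algebra.TensorProduct.includeLeftRingHom) ≫ D.d := by
  rw [Piece.inc, Category.assoc, pullback.lift_fst, ← Category.assoc, pullbackSpecIso_inv_fst]

@[reassoc]
theorem Piece.inc_snd (D : Piece z) (A' : Type u) [CommRing A'] [Algebra A A'] :
    D.inc A' ≫ pullback.snd _ _ =
      Spec.map (CommRingCat.ofHom (Algebra.TensorProduct.includeRight : A' →ₐ[A] D.M ⊗[A] A').toRingHom) := by
  rw [Piece.inc, Category.assoc, pullback.lift_snd, Category.comp_id, pullbackSpecIso_inv_snd]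
  rfl

theorem Piece.exists_lift (D : Piece z) (A' : Type u) [CommRing A'] [Algebra A A'] {W : Scheme.{u}} (x : W ⟶ pb z A')
    (y : W ⟶ Spec (CommRingCat.of D.M)) (hxy : x ≫ pullback.fst _ _ = y ≫ D.d) :
    ∃ l : W ⟶ Spec (CommRingCat.of (D.M ⊗[A] A')),
      l ≫ Spec.map (CommRingCat.ofHom Algebra.TensorProduct.includeLeftRingHom) = y ∧ x = l ≫ D.inc A' := by
  let e := pullbackSpecIso A D.M A'
  have e1 : Spec.map (CommRingCat.ofHom Algebra.TensorProduct.includeLeftRingHom) = e.inv ≫ pullback.fst _ _ :=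
    (pullbackSpecIso_inv_fst A D.M A').symm
  have e2 : Spec.map (CommRingCat.ofHom (Algebra.TensorProduct.includeRight : A' →ₐ[A] D.M ⊗[A] A').toRingHom) =
      e.inv ≫ pullback.snd _ _ := (pullbackSpecIso_inv_snd A D.M A').symm
  refine ⟨pullback.lift y (x ≫ pullback.snd _ _) (by
    rw [Category.assoc, ← pullback.condition, ← Category.assoc, hxy, Category.assoc, D.hd]) ≫ e.hom, ?_, ?_⟩
  · rw [e1, Category.assoc, Iso.hom_inv_id_assoc, pullback.lift_fst]
  · apply pullback.hom_ext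
    · rw [Category.assoc, D.inc_fst, e1]
      simp only [Category.assoc, Iso.hom_inv_id_assoc, pullback.lift_fst_assoc, hxy]
    · rw [Category.assoc, D.inc_snd, e2, Category.assoc, Iso.hom_inv_id_assoc, pullback.lift_snd]

variable (h : ExactSq u v) {B : CommRingCat.{u}}

include h in
/-- Morphisms to an affine scheme agreeing over `A₁` and `A₂` are equal. -/
theorem ext_of_affine [Flat z] (a b : Z ⟶ Spec B)
    (h₁ : pullback.fst z (Spec.map (CommRingCat.ofHom (algebraMap A A₁))) ≫ a = pullback.fst _ _ ≫ b)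
    (h₂ : pullback.fst z (Spec.map (CommRingCat.ofHom (algebraMap A A₂))) ≫ a = pullback.fst _ _ ≫ b) : a = b := by
  choose D hD using exists_piece z
  let 𝒰 : Z.OpenCover := Scheme.Cover.mkOfCovers Z (fun i => Spec (CommRingCat.of (D i).M)) (fun i => (D i).d)
    (fun x => ⟨x, hD x⟩) (fun i => inferInstance)
  refine Scheme.Cover.hom_ext 𝒰 a b fun i => ?_
  obtain ⟨α, hα⟩ := Spec.map_surjective ((D i).d ≫ a)
  obtain ⟨β, hβ⟩ := Spec.map_surjective ((D i).d ≫ b)
  show (D i).d ≫ a = (D i).d ≫ b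
  rw [← hα, ← hβ]
  congr 1
  refine CommRingCat.hom_ext (RingHom.ext fun x => sub_eq_zero.1 ((h.tensor (D i).M).1 _ ?_ ?_))
  · have e := (D i).inc A₁ ≫= h₁
    rw [(D i).inc_fst_assoc, (D i).inc_fst_assoc, ← hα, ← hβ, ← Spec.map_comp, ← Spec.map_comp] at e
    rw [TensorProduct.sub_tmul, sub_eq_zero]
    exact congrArg (fun f => f.hom x) (Spec.map_injective e)
  · have e := (D i).inc A₂ ≫= h₂
    rw [(D i).inc_fst_assoc, (D i).inc_fst_assoc, ← hα, ← hβ, ← Spec.map_comp, ← Spec.map_comp] at e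
    rw [TensorProduct.sub_tmul, sub_eq_zero]
    exact congrArg (fun f => f.hom x) (Spec.map_injective e)

include h in
/-- Morphisms to an affine scheme glue. -/
theorem exists_glue_affine [Flat z] (a₁ : pb z A₁ ⟶ Spec B) (a₂ : pb z A₂ ⟶ Spec B)
    (hc : ∀ {W : Scheme.{u}} (x₁ : W ⟶ pb z A₁) (x₂ : W ⟶ pb z A₂) (k : W ⟶ Spec (CommRingCat.of A₃)),
      x₁ ≫ pullback.fst _ _ = x₂ ≫ pullback.fst _ _ → x₁ ≫ pullback.snd _ _ = k ≫ Spec.map (CommRingCat.ofHom u.toRingHom) →
      x₂ ≫ pullback.snd _ _ = k ≫ Spec.map (CommRingCat.ofHom v.toRingHom) → x₁ ≫ a₁ = x₂ ≫ a₂) :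
    ∃ a : Z ⟶ Spec B, pullback.fst _ _ ≫ a = a₁ ∧ pullback.fst _ _ ≫ a = a₂ := by
  have loc : ∀ D : Piece z, ∃ β : Spec (CommRingCat.of D.M) ⟶ Spec B,
      Spec.map (CommRingCat.ofHom Algebra.TensorProduct.includeLeftRingHom) ≫ β = D.inc A₁ ≫ a₁ ∧
      Spec.map (CommRingCat.ofHom Algebra.TensorProduct.includeLeftRingHom) ≫ β = D.inc A₂ ≫ a₂ := by
    intro D
    obtain ⟨β₁, hβ₁⟩ := Spec.map_surjective (D.inc A₁ ≫ a₁)
    obtain ⟨β₂, hβ₂⟩ := Spec.map_surjective (D.inc A₂ ≫ a₂)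
    let mu := Algebra.TensorProduct.map (AlgHom.id A D.M) u
    let mv := Algebra.TensorProduct.map (AlgHom.id A D.M) v
    have key := hc (Spec.map (CommRingCat.ofHom mu.toRingHom) ≫ D.inc A₁)
      (Spec.map (CommRingCat.ofHom mv.toRingHom) ≫ D.inc A₂)
      (Spec.map (CommRingCat.ofHom (Algebra.TensorProduct.includeRight : A₃ →ₐ[A] D.M ⊗[A] A₃).toRingHom))
      (by
        rw [Category.assoc, Category.assoc, D.inc_fst, D.inc_fst, ← Spec.map_comp_assoc, ← Spec.map_comp_assoc]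
        congr 2
        exact CommRingCat.hom_ext (RingHom.ext fun x => by simp [mu, mv]))
      (by
        rw [Category.assoc, D.inc_snd, ← Spec.map_comp, ← Spec.map_comp]
        congr 1)
      (by
        rw [Category.assoc, D.inc_snd, ← Spec.map_comp, ← Spec.map_comp]
        congr 1)
    rw [Category.assoc, Category.assoc, ← hβ₁, ← hβ₂, ← Spec.map_comp, ← Spec.map_comp] at key
    have e : ∀ b : B, u.toLinearMap.lTensor D.M (β₁.hom b) = v.toLinearMap.lTensor D.M (β₂.hom b) := fun b =>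
      congrArg (fun f => f.hom b) (Spec.map_injective key)
    choose m hm₁ hm₂ using fun b => (h.tensor D.M).2 _ _ (e b)
    have huniq : ∀ {x y : D.M}, x ⊗ₜ[A] (1 : A₁) = y ⊗ₜ[A] (1 : A₁) → x ⊗ₜ[A] (1 : A₂) = y ⊗ₜ[A] (1 : A₂) → x = y :=
      fun h1 h2 => sub_eq_zero.1 ((h.tensor D.M).1 _ (by rw [TensorProduct.sub_tmul, h1, sub_self])
        (by rw [TensorProduct.sub_tmul, h2, sub_self]))
    let β : B ⟶ CommRingCat.of D.M := CommRingCat.ofHom
      { toFun := m
        map_one' := huniq (by rw [hm₁, map_one]; rfl) (by rw [hm₂, map_one]; rfl)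
        map_mul' := fun a b => huniq
          (by rw [hm₁, map_mul, ← hm₁ a, ← hm₁ b, Algebra.TensorProduct.tmul_mul_tmul, mul_one])
          (by rw [hm₂, map_mul, ← hm₂ a, ← hm₂ b, Algebra.TensorProduct.tmul_mul_tmul, mul_one])
        map_zero' := huniq (by rw [hm₁, map_zero, TensorProduct.zero_tmul]) (by rw [hm₂, map_zero, TensorProduct.zero_tmul])
        map_add' := fun a b => huniq (by rw [hm₁, map_add, TensorProduct.add_tmul, hm₁, hm₁])
          (by rw [hm₂, map_add, TensorProduct.add_tmul, hm₂, hm₂]) }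
    refine ⟨Spec.map β, ?_, ?_⟩
    · rw [← hβ₁, ← Spec.map_comp]
      exact congrArg Spec.map (CommRingCat.hom_ext (RingHom.ext hm₁))
    · rw [← hβ₂, ← Spec.map_comp]
      exact congrArg Spec.map (CommRingCat.hom_ext (RingHom.ext hm₂))
  choose β hβ₁ hβ₂ using loc
  choose D hD using exists_piece z
  let 𝒰 : Z.OpenCover := Scheme.Cover.mkOfCovers Z (fun i => Spec (CommRingCat.of (D i).M)) (fun i => (D i).d)
    (fun x => ⟨x, hD x⟩) (fun i => inferInstance)
  -- what a piece sees over `A'`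
  have restrict : ∀ {A' : Type u} [CommRing A'] [Algebra A A'] (a' : pb z A' ⟶ Spec B),
      (∀ D : Piece z, Spec.map (CommRingCat.ofHom Algebra.TensorProduct.includeLeftRingHom) ≫ β D = D.inc A' ≫ a') →
      ∀ (D : Piece z) {W : Scheme.{u}} (x : W ⟶ pb z A') (y : W ⟶ Spec (CommRingCat.of D.M)),
        x ≫ pullback.fst _ _ = y ≫ D.d → x ≫ a' = y ≫ β D := by
    intro A' _ _ a' ha D W x y hxy
    obtain ⟨l, hl, hx⟩ := D.exists_lift A' x y hxy
    rw [hx, Category.assoc, ← ha, reassoc_of% hl]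
  let a := 𝒰.glueMorphisms (fun i => β (D i)) fun i i' => by
    let W := pullback (D i).d (D i').d
    haveI : Flat (pullback.fst (D i).d (D i').d ≫ (D i).d) := inferInstance
    refine ext_of_affine h (z := (pullback.fst (D i).d (D i').d ≫ (D i).d) ≫ z) _ _ ?_ ?_
    · let x : pb ((pullback.fst (D i).d (D i').d ≫ (D i).d) ≫ z) A₁ ⟶ pb z A₁ :=
        pullback.map _ _ _ _ (pullback.fst (D i).d (D i').d ≫ (D i).d) (𝟙 _) (𝟙 _) (by simp) (by simp)
      refine (Category.assoc _ _ _).symm.trans ((restrict a₁ hβ₁ (D i) x _ ?_).symm.trans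
        ((restrict a₁ hβ₁ (D i') x _ ?_).trans (Category.assoc _ _ _)))
      · rw [pullback.lift_fst, Category.assoc]; rfl
      · rw [pullback.lift_fst, pullback.condition, Category.assoc]; rfl
    · let x : pb ((pullback.fst (D i).d (D i').d ≫ (D i).d) ≫ z) A₂ ⟶ pb z A₂ :=
        pullback.map _ _ _ _ (pullback.fst (D i).d (D i').d ≫ (D i).d) (𝟙 _) (𝟙 _) (by simp) (by simp)
      refine (Category.assoc _ _ _).symm.trans ((restrict a₂ hβ₂ (D i) x _ ?_).symm.trans
        ((restrict a₂ hβ₂ (D i') x _ ?_).trans (Category.assoc _ _ _)))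
      · rw [pullback.lift_fst, Category.assoc]; rfl
      · rw [pullback.lift_fst, pullback.condition, Category.assoc]; rfl
  have ha : ∀ i, (D i).d ≫ a = β (D i) := fun i => 𝒰.ι_glueMorphisms _ _ i
  have hfin : ∀ {A' : Type u} [CommRing A'] [Algebra A A'] (a' : pb z A' ⟶ Spec B),
      (∀ D : Piece z, Spec.map (CommRingCat.ofHom Algebra.TensorProduct.includeLeftRingHom) ≫ β D = D.inc A' ≫ a') →
      pullback.fst _ _ ≫ a = a' := by
    intro A' _ _ a' ha'
    refine Scheme.Cover.hom_ext (𝒰.pullback₁ (pullback.fst z _)) _ _ fun i => ?_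
    show pullback.fst (pullback.fst z _) (D i).d ≫ _ = pullback.fst (pullback.fst z _) (D i).d ≫ _
    rw [← Category.assoc, pullback.condition, Category.assoc, ha i,
      restrict a' ha' (D i) _ _ pullback.condition]
  exact ⟨a, hfin a₁ hβ₁, hfin a₂ hβ₂⟩

end Groth.Agent.H18BLMor
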