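import Mathlib
import Groth.Prelude.Def_ActBC
import Groth.Agent.H18BLMor.Glue
import Groth.Agent.H28Neron.TorsorDescent
import Groth.Agent.H13Desc.QuasiAffineDescent
import Groth.Agent.H18Torsor.Basic

/-!
# Gluing equivariant isomorphisms of torsors under flat quasi-affine groups
-/

set_option autoImplicit false
set_option linter.style.haveILetI false
set_option backward.isDefEq.respectTransparency false

universe u

open CategoryTheory MonoidalCategory CartesianMonoidalCategory MonObj AlgebraicGeometry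
open Groth.Agent.H28Neron.Torsor

namespace Groth.Agent.H18BLMor

/-- Torsors under flat quasi-affine groups over affine bases are flat and quasi-affine. -/
theorem properties {S : Scheme.{u}} {G N : Over S} [GrpObj G] [IsAffine S] [Flat G.hom] [G.left.IsQuasiAffine]
    (a : AlgGrp.Action G N) [IsIso (lift a.act (snd G N))]
    (h : NonAbH1.IsLocallyTrivialFor Scheme.fppfPrecoverage N) : Flat N.hom ∧ N.left.IsQuasiAffine := by
  obtain ⟨T, g, hg₁, hg₂, hg₃, s, hs⟩ := exists_section_cover N h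
  let e := trivialize a (Over.mk g) (Over.homMk s hs)
  let ψ : Limits.pullback G.hom g ⟶ Limits.pullback N.hom g := e.hom.left
  haveI : IsIso ψ := ((Over.forget S).mapIso e).isIso_hom
  have hψ : ψ ≫ Limits.pullback.snd N.hom g = Limits.pullback.snd G.hom g := by
    have : e.hom ≫ snd N (Over.mk g) = snd G (Over.mk g) := lift_snd _ _
    exact congrArg (fun m => m.left) this
  have tr : ∀ (P : MorphismProperty Scheme.{u}) [P.RespectsIso] [P.IsStableUnderBaseChange],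
      P G.hom → P (Limits.pullback.snd N.hom g) := fun P _ _ hP => by
    rw [← P.cancel_left_of_respectsIso ψ, hψ]
    exact MorphismProperty.pullback_snd _ _ hP
  have hQ : Groth.Agent.H18Descent.fpqc g := ⟨⟨hg₂, hg₁⟩, hg₃⟩
  exact ⟨MorphismProperty.of_pullback_snd_of_descendsAlong (P := @Flat) (Q := Groth.Agent.H18Descent.fpqc) hQ (tr @Flat ‹_›),
    H13Desc.QuasiAffineDescent.isQuasiAffine_top N.hom
      (MorphismProperty.of_pullback_snd_of_descendsAlong (P := H13Desc.QuasiAffineDescent.qAff)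
        (Q := Groth.Agent.H18Descent.fpqc) hQ
        (tr H13Desc.QuasiAffineDescent.qAff (H13Desc.QuasiAffineDescent.of_isQuasiAffine G.hom)))⟩

variable {A A₁ A₂ A₃ : Type u} [CommRing A] [CommRing A₁] [CommRing A₂] [CommRing A₃]
  [Algebra A A₁] [Algebra A A₂] [Algebra A A₃] {u : A₁ →ₐ[A] A₃} {v : A₂ →ₐ[A] A₃}

/-- Base change to `A'`. -/
noncomputable abbrev bcF (A A' : Type u) [CommRing A] [CommRing A'] [Algebra A A'] :
    Over (Spec (CommRingCat.of A)) ⥤ Over (Spec (CommRingCat.of A')) :=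
  Over.pullback (Spec.map (CommRingCat.ofHom (algebraMap A A')))

theorem hom_ext_bc (h : ExactSq u v) {Z N : Over (Spec (CommRingCat.of A))} [Flat Z.hom] [N.left.IsQuasiAffine]
    (a b : Z ⟶ N) (h₁ : (bcF A A₁).map a = (bcF A A₁).map b) (h₂ : (bcF A A₂).map a = (bcF A A₂).map b) :
    a = b := by
  refine Over.OverMorphism.ext ((cancel_mono N.left.toSpecΓ).1
    (ext_of_affine h (z := Z.hom) _ _ ?_ ?_))
  · have := congrArg (fun m => m.left ≫ Limits.pullback.fst N.hom _) h₁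
    simp only [ActBC.pullback_map_left_fst] at this
    rw [← Category.assoc, this, Category.assoc]
  · have := congrArg (fun m => m.left ≫ Limits.pullback.fst N.hom _) h₂
    simp only [ActBC.pullback_map_left_fst] at this
    rw [← Category.assoc, this, Category.assoc]

theorem exists_hom_bc (h : ExactSq u v)
    (hcov : ∀ p : Spec (CommRingCat.of A), p ∈ Set.range (Spec.map (CommRingCat.ofHom (algebraMap A A₁))) ∨
      p ∈ Set.range (Spec.map (CommRingCat.ofHom (algebraMap A A₂))))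
    {Z N : Over (Spec (CommRingCat.of A))} [Flat Z.hom] [N.left.IsQuasiAffine]
    (e₁ : (bcF A A₁).obj Z ⟶ (bcF A A₁).obj N) (e₂ : (bcF A A₂).obj Z ⟶ (bcF A A₂).obj N)
    (hc : ∀ {W : Scheme.{u}} (x₁ : W ⟶ pb Z.hom A₁) (x₂ : W ⟶ pb Z.hom A₂) (k : W ⟶ Spec (CommRingCat.of A₃)),
      x₁ ≫ Limits.pullback.fst _ _ = x₂ ≫ Limits.pullback.fst _ _ →
      x₁ ≫ Limits.pullback.snd _ _ = k ≫ Spec.map (CommRingCat.ofHom u.toRingHom) →
      x₂ ≫ Limits.pullback.snd _ _ = k ≫ Spec.map (CommRingCat.ofHom v.toRingHom) →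
      x₁ ≫ e₁.left ≫ Limits.pullback.fst _ _ = x₂ ≫ e₂.left ≫ Limits.pullback.fst _ _) :
    ∃ a : Z ⟶ N, (bcF A A₁).map a = e₁ ∧ (bcF A A₂).map a = e₂ := by
  let jN := N.left.toSpecΓ
  obtain ⟨a₀, ha₁, ha₂⟩ := exists_glue_affine (z := Z.hom) h (e₁.left ≫ Limits.pullback.fst _ _ ≫ jN)
    (e₂.left ≫ Limits.pullback.fst _ _ ≫ jN) fun x₁ x₂ k h₁ h₂ h₃ => by
      simpa only [Category.assoc] using congrArg (· ≫ jN) (hc x₁ x₂ k h₁ h₂ h₃)
  have hr : Set.range a₀ ⊆ Set.range jN := by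
    rintro _ ⟨x, rfl⟩
    rcases hcov (Z.hom x) with ⟨q, hq⟩ | ⟨q, hq⟩
    · obtain ⟨y, hy, -⟩ := Scheme.Pullback.exists_preimage_pullback (f := Z.hom) x q hq.symm
      refine ⟨(e₁.left ≫ Limits.pullback.fst _ _) y, ?_⟩
      rw [← hy]
      show ((e₁.left ≫ Limits.pullback.fst _ _) ≫ jN) y = (Limits.pullback.fst _ _ ≫ a₀) y
      rw [ha₁, Category.assoc]; rfl
    · obtain ⟨y, hy, -⟩ := Scheme.Pullback.exists_preimage_pullback (f := Z.hom) x q hq.symm
      refine ⟨(e₂.left ≫ Limits.pullback.fst _ _) y, ?_⟩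
      rw [← hy]
      show ((e₂.left ≫ Limits.pullback.fst _ _) ≫ jN) y = (Limits.pullback.fst _ _ ≫ a₀) y
      rw [ha₂, Category.assoc]; rfl
  let a : Z.left ⟶ N.left := IsOpenImmersion.lift jN a₀ hr
  have hjN : a ≫ jN = a₀ := IsOpenImmersion.lift_fac _ _ _
  have h1 : Limits.pullback.fst Z.hom _ ≫ a = e₁.left ≫ Limits.pullback.fst _ _ := by
    rw [← cancel_mono jN, Category.assoc, hjN, ha₁, Category.assoc]
  have h2 : Limits.pullback.fst Z.hom _ ≫ a = e₂.left ≫ Limits.pullback.fst _ _ := by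
    rw [← cancel_mono jN, Category.assoc, hjN, ha₂, Category.assoc]
  have hw : a ≫ N.hom = Z.hom := by
    refine ext_of_affine h (z := Z.hom) (B := CommRingCat.of A) _ _ ?_ ?_
    · rw [← Category.assoc, h1, Category.assoc, Limits.pullback.condition, Limits.pullback.condition,
        ← Category.assoc]
      exact congrArg (· ≫ _) (Over.w e₁)
    · rw [← Category.assoc, h2, Category.assoc, Limits.pullback.condition, Limits.pullback.condition,
        ← Category.assoc]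
      exact congrArg (· ≫ _) (Over.w e₂)
  refine ⟨Over.homMk a hw, ?_, ?_⟩
  · refine Over.OverMorphism.ext (Limits.pullback.hom_ext ?_ ?_)
    · rw [ActBC.pullback_map_left_fst]; exact h1
    · exact (Over.w _).trans (Over.w e₁).symm
  · refine Over.OverMorphism.ext (Limits.pullback.hom_ext ?_ ?_)
    · rw [ActBC.pullback_map_left_fst]; exact h2
    · exact (Over.w _).trans (Over.w e₂).symm

theorem cond_symm {Z N : Over (Spec (CommRingCat.of A))} (e₁ : (bcF A A₁).obj Z ≅ (bcF A A₁).obj N)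
    (e₂ : (bcF A A₂).obj Z ≅ (bcF A A₂).obj N)
    (hc : ∀ {W : Scheme.{u}} (x₁ : W ⟶ pb Z.hom A₁) (x₂ : W ⟶ pb Z.hom A₂) (k : W ⟶ Spec (CommRingCat.of A₃)),
      x₁ ≫ Limits.pullback.fst _ _ = x₂ ≫ Limits.pullback.fst _ _ →
      x₁ ≫ Limits.pullback.snd _ _ = k ≫ Spec.map (CommRingCat.ofHom u.toRingHom) →
      x₂ ≫ Limits.pullback.snd _ _ = k ≫ Spec.map (CommRingCat.ofHom v.toRingHom) →
      x₁ ≫ e₁.hom.left ≫ Limits.pullback.fst _ _ = x₂ ≫ e₂.hom.left ≫ Limits.pullback.fst _ _)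
    {W : Scheme.{u}} (x₁ : W ⟶ pb N.hom A₁) (x₂ : W ⟶ pb N.hom A₂) (k : W ⟶ Spec (CommRingCat.of A₃))
    (h₁ : x₁ ≫ Limits.pullback.fst _ _ = x₂ ≫ Limits.pullback.fst _ _)
    (h₂ : x₁ ≫ Limits.pullback.snd _ _ = k ≫ Spec.map (CommRingCat.ofHom u.toRingHom))
    (h₃ : x₂ ≫ Limits.pullback.snd _ _ = k ≫ Spec.map (CommRingCat.ofHom v.toRingHom)) :
    x₁ ≫ e₁.inv.left ≫ Limits.pullback.fst _ _ = x₂ ≫ e₂.inv.left ≫ Limits.pullback.fst _ _ := by
  let y₁ : W ⟶ pb Z.hom A₁ := x₁ ≫ e₁.inv.left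
  have hy₁ : y₁ ≫ Limits.pullback.snd _ _ = k ≫ Spec.map (CommRingCat.ofHom u.toRingHom) := by
    rw [← h₂, Category.assoc]
    exact congrArg (x₁ ≫ ·) (Over.w e₁.inv)
  let y₂ : W ⟶ pb Z.hom A₂ := Limits.pullback.lift (y₁ ≫ Limits.pullback.fst _ _)
    (k ≫ Spec.map (CommRingCat.ofHom v.toRingHom)) (by
      rw [Category.assoc, Limits.pullback.condition, reassoc_of% hy₁, Category.assoc, ← Spec.map_comp, ← Spec.map_comp,
        ← CommRingCat.ofHom_comp, ← CommRingCat.ofHom_comp]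
      congr 3
      exact u.comp_algebraMap.trans v.comp_algebraMap.symm)
  have h := hc y₁ y₂ k (Limits.pullback.lift_fst _ _ _).symm hy₁ (Limits.pullback.lift_snd _ _ _)
  have e1 : y₁ ≫ e₁.hom.left = x₁ := by
    rw [Category.assoc, ← Over.comp_left, Iso.inv_hom_id]
    exact Category.comp_id _
  have e2 : y₂ ≫ e₂.hom.left = x₂ := by
    apply Limits.pullback.hom_ext
    · rw [Category.assoc, ← h, ← Category.assoc, e1, h₁]
    · rw [h₃, Category.assoc]
      exact (congrArg (y₂ ≫ ·) (Over.w e₂.hom)).trans (Limits.pullback.lift_snd _ _ _)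
  rw [← e2, Category.assoc, ← Over.comp_left_assoc, Iso.hom_inv_id]
  show x₁ ≫ _ = y₂ ≫ 𝟙 _ ≫ _
  rw [Category.id_comp, Limits.pullback.lift_fst, ← Category.assoc]

theorem map_equivariant {S S' : Scheme.{u}} (f : S' ⟶ S) {G P Q : Over S} [GrpObj G] (a : AlgGrp.Action G P)
    (b : AlgGrp.Action G Q) (e : NonAbH1.EquivIso (a.bc f) (b.bc f)) (Φ : P ⟶ Q)
    (h : (Over.pullback f).map Φ = e.iso.hom) :
    (Over.pullback f).map (a.act ≫ Φ) = (Over.pullback f).map ((G ◁ Φ) ≫ b.act) := by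
  let F := Over.pullback f
  rw [← cancel_epi (Functor.LaxMonoidal.μ F G P), Functor.map_comp, Functor.map_comp,
    ← Functor.LaxMonoidal.μ_natural_right_assoc, h]
  have := e.comm
  rw [AlgGrp.Action.bc_act, AlgGrp.Action.bc_act, Category.assoc] at this
  exact this

/-- Equivariant isomorphisms of torsors glue. -/
theorem existsUnique_equivIso (h : ExactSq u v)
    (hcov : ∀ p : Spec (CommRingCat.of A), p ∈ Set.range (Spec.map (CommRingCat.ofHom (algebraMap A A₁))) ∨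
      p ∈ Set.range (Spec.map (CommRingCat.ofHom (algebraMap A A₂))))
    (G : Over (Spec (CommRingCat.of A))) [GrpObj G] [Flat G.hom] [G.left.IsQuasiAffine]
    (P Q : NonAbH1.TorsorSch G Scheme.fppfPrecoverage)
    (e₁ : NonAbH1.EquivIso (P.act.bc (Spec.map (CommRingCat.ofHom (algebraMap A A₁))))
      (Q.act.bc (Spec.map (CommRingCat.ofHom (algebraMap A A₁)))))
    (e₂ : NonAbH1.EquivIso (P.act.bc (Spec.map (CommRingCat.ofHom (algebraMap A A₂))))
      (Q.act.bc (Spec.map (CommRingCat.ofHom (algebraMap A A₂)))))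
    (hc : ∀ {W : Scheme.{u}} (x₁ : W ⟶ pb P.X.hom A₁) (x₂ : W ⟶ pb P.X.hom A₂) (k : W ⟶ Spec (CommRingCat.of A₃)),
      x₁ ≫ Limits.pullback.fst _ _ = x₂ ≫ Limits.pullback.fst _ _ →
      x₁ ≫ Limits.pullback.snd _ _ = k ≫ Spec.map (CommRingCat.ofHom u.toRingHom) →
      x₂ ≫ Limits.pullback.snd _ _ = k ≫ Spec.map (CommRingCat.ofHom v.toRingHom) →
      x₁ ≫ e₁.iso.hom.left ≫ Limits.pullback.fst _ _ = x₂ ≫ e₂.iso.hom.left ≫ Limits.pullback.fst _ _) :
    ∃! α : NonAbH1.EquivIso P.act Q.act,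
      (NonAbH1.EquivIso.bc (Spec.map (CommRingCat.ofHom (algebraMap A A₁))) α).iso = e₁.iso ∧
      (NonAbH1.EquivIso.bc (Spec.map (CommRingCat.ofHom (algebraMap A A₂))) α).iso = e₂.iso := by
  haveI : IsIso (lift P.act.act (snd G P.X)) := P.isTorsor.1
  haveI : IsIso (lift Q.act.act (snd G Q.X)) := Q.isTorsor.1
  obtain ⟨_, _⟩ := properties P.act P.isTorsor.2
  obtain ⟨_, _⟩ := properties Q.act Q.isTorsor.2
  obtain ⟨Φ, hΦ₁, hΦ₂⟩ := exists_hom_bc h hcov e₁.iso.hom e₂.iso.hom hc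
  obtain ⟨Ψ, hΨ₁, hΨ₂⟩ := exists_hom_bc h hcov e₁.iso.inv e₂.iso.inv (cond_symm e₁.iso e₂.iso hc)
  haveI : Flat (G ⊗ P.X).hom := inferInstanceAs (Flat (Limits.pullback.fst G.hom P.X.hom ≫ G.hom))
  have hcomm : P.act.act ≫ Φ = (G ◁ Φ) ≫ Q.act.act :=
    hom_ext_bc h _ _ (map_equivariant _ _ _ e₁ Φ hΦ₁) (map_equivariant _ _ _ e₂ Φ hΦ₂)
  have hid : Φ ≫ Ψ = 𝟙 _ := hom_ext_bc h _ _ (by rw [Functor.map_comp, hΦ₁, hΨ₁, CategoryTheory.Functor.map_id, Iso.hom_inv_id])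
    (by rw [Functor.map_comp, hΦ₂, hΨ₂, CategoryTheory.Functor.map_id, Iso.hom_inv_id])
  have hid' : Ψ ≫ Φ = 𝟙 _ := hom_ext_bc h _ _ (by rw [Functor.map_comp, hΦ₁, hΨ₁, CategoryTheory.Functor.map_id, Iso.inv_hom_id])
    (by rw [Functor.map_comp, hΦ₂, hΨ₂, CategoryTheory.Functor.map_id, Iso.inv_hom_id])
  refine ⟨⟨⟨Φ, Ψ, hid, hid'⟩, hcomm⟩, ⟨Iso.ext hΦ₁, Iso.ext hΦ₂⟩, ?_⟩
  rintro ⟨i, hi⟩ ⟨h₁, h₂⟩
  congr 1
  exact Iso.ext (hom_ext_bc h _ _ ((congrArg Iso.hom h₁).trans hΦ₁.symm) ((congrArg Iso.hom h₂).trans hΦ₂.symm))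

end Groth.Agent.H18BLMor
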