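import Mathlib
import Groth.Agent.H18BLMor.Main

/-!
# The square of rings of a glueing pair is exact
-/

set_option autoImplicit false

universe u

open CategoryTheory AlgebraicGeometry

namespace Groth.Agent.H18BLMor

variable {A A' : Type u} [CommRing A] [CommRing A'] [Algebra A A'] (t : A)

/-- The map of localizations. -/
noncomputable def awayHom : Localization.Away t →ₐ[A] Localization.Away (algebraMap A A' t) :=
  { Localization.awayMap (algebraMap A A') t with
    commutes' := fun r => by
      show Localization.awayMap (algebraMap A A') t (algebraMap A _ r) = _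
      rw [Localization.awayMap, IsLocalization.Away.map, IsLocalization.map_eq]
      exact (IsScalarTower.algebraMap_apply A A' (Localization.Away (algebraMap A A' t)) r).symm }

theorem exactSq
    (hq : ∀ m : ℕ, Function.Bijective
      (Ideal.quotientMap (Ideal.map (algebraMap A A') (Ideal.span {t} ^ m)) (algebraMap A A') Ideal.le_comap_map))
    (htor : ∀ a' : A', (∃ m : ℕ, algebraMap A A' t ^ m * a' = 0) →
      ∃! a : A, (∃ m : ℕ, t ^ m * a = 0) ∧ algebraMap A A' a = a') :
    ExactSq (awayHom (A' := A') t) (IsScalarTower.toAlgHom A A' (Localization.Away (algebraMap A A' t))) where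
  eq_zero a h₁ h₂ := by
    obtain ⟨⟨_, m, rfl⟩, hm⟩ := (IsLocalization.map_eq_zero_iff (Submonoid.powers t) _ a).1 h₁
    exact (htor 0 ⟨0, by simp⟩).unique ⟨⟨m, hm⟩, h₂⟩ ⟨⟨0, by simp⟩, map_zero _⟩
  exists_lift x y hxy := by
    obtain ⟨⟨a, ⟨_, m, rfl⟩⟩, rfl⟩ := IsLocalization.mk'_surjective (Submonoid.powers t) x
    have h0 : awayHom (A' := A') t (IsLocalization.mk' _ a (⟨t ^ m, m, rfl⟩ : Submonoid.powers t)) *
        algebraMap A' (Localization.Away (algebraMap A A' t)) (algebraMap A A' t ^ m) =
        algebraMap A' _ (algebraMap A A' a) := by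
      rw [← map_pow, ← IsScalarTower.algebraMap_apply, ← IsScalarTower.algebraMap_apply,
        ← (awayHom (A' := A') t).commutes, ← (awayHom (A' := A') t).commutes, ← map_mul]
      exact congrArg _ (IsLocalization.mk'_spec _ _ _)
    rw [hxy] at h0
    replace h0 : algebraMap A' (Localization.Away (algebraMap A A' t)) (y * algebraMap A A' t ^ m - algebraMap A A' a) = 0 := by
      rw [map_sub, map_mul, sub_eq_zero]; exact h0
    obtain ⟨⟨_, k, rfl⟩, hk⟩ := (IsLocalization.map_eq_zero_iff (Submonoid.powers (algebraMap A A' t)) _ _).1 h0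
    obtain ⟨b, ⟨⟨l, hl⟩, hb⟩, -⟩ := htor _ ⟨k, hk⟩
    have hmem : Ideal.quotientMap (Ideal.map (algebraMap A A') (Ideal.span {t} ^ m)) (algebraMap A A') Ideal.le_comap_map
        (Ideal.Quotient.mk _ (a + b)) = 0 := by
      rw [Ideal.quotientMap_mk, Ideal.Quotient.eq_zero_iff_mem, map_add, hb, add_sub_cancel, Ideal.span_singleton_pow,
        Ideal.map_span, Set.image_singleton, map_pow]
      exact Ideal.mem_span_singleton.2 ⟨y, mul_comm _ _⟩
    have := (hq m).1 (hmem.trans (map_zero _).symm)
    rw [Ideal.Quotient.eq_zero_iff_mem, Ideal.span_singleton_pow, Ideal.mem_span_singleton] at this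
    obtain ⟨c, hc⟩ := this
    have hc' : algebraMap A A' t ^ m * (algebraMap A A' c - y) = 0 := by
      rw [mul_sub, ← map_pow, ← map_mul, ← hc, map_add, hb, map_pow]; ring
    obtain ⟨b', ⟨⟨l', hl'⟩, hb'⟩, -⟩ := htor _ ⟨m, hc'⟩
    refine ⟨c - b', ?_, by rw [map_sub, hb', sub_sub_cancel]⟩
    refine (IsLocalization.eq_mk'_iff_mul_eq.2 ?_)
    rw [← map_mul]
    refine (IsLocalization.eq_iff_exists (Submonoid.powers t) _).2 ⟨⟨t ^ (l + l'), l + l', rfl⟩, ?_⟩
    show t ^ (l + l') * ((c - b') * t ^ m) = t ^ (l + l') * a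
    linear_combination (-t ^ l * t ^ m) * hl' + t ^ l' * hl + (-t ^ (l + l')) * hc

theorem range_cover
    (hq : Function.Bijective
      (Ideal.quotientMap (Ideal.map (algebraMap A A') (Ideal.span {t} ^ 1)) (algebraMap A A') Ideal.le_comap_map))
    (p : Spec (CommRingCat.of A)) :
    p ∈ Set.range (Spec.map (CommRingCat.ofHom (algebraMap A (Localization.Away t)))) ∨
      p ∈ Set.range (Spec.map (CommRingCat.ofHom (algebraMap A A'))) := by
  by_cases ht : t ∈ p.asIdeal
  · refine Or.inr ?_
    let ψ := Ideal.quotientMap (Ideal.map (algebraMap A A') (Ideal.span {t} ^ 1)) (algebraMap A A')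
      (Ideal.le_comap_map (I := Ideal.span {t} ^ 1))
    let e := RingEquiv.ofBijective ψ hq
    have hp : Ideal.span {t} ^ 1 ≤ p.asIdeal := by rwa [pow_one, Ideal.span_singleton_le_iff_mem]
    let pb : PrimeSpectrum (A ⧸ Ideal.span {t} ^ 1) :=
      ⟨p.asIdeal.map (Ideal.Quotient.mk _), Ideal.map_isPrime_of_surjective Ideal.Quotient.mk_surjective (by rwa [Ideal.mk_ker])⟩
    refine ⟨PrimeSpectrum.comap (Ideal.Quotient.mk _) (PrimeSpectrum.comap e.symm.toRingHom pb), ?_⟩
    refine PrimeSpectrum.ext ?_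
    show ((pb.asIdeal.comap e.symm.toRingHom).comap (Ideal.Quotient.mk _)).comap (algebraMap A A') = p.asIdeal
    rw [Ideal.comap_comap, Ideal.comap_comap]
    have : (e.symm.toRingHom.comp (Ideal.Quotient.mk _)).comp (algebraMap A A') = Ideal.Quotient.mk (Ideal.span {t} ^ 1) :=
      RingHom.ext fun a => e.symm_apply_eq.2 (Ideal.quotientMap_mk (H := Ideal.le_comap_map)).symm
    rw [← RingHom.comp_assoc, this, Ideal.comap_map_of_surjective _ Ideal.Quotient.mk_surjective, ← RingHom.ker_eq_comap_bot, Ideal.mk_ker,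
      sup_eq_left.2 hp]
  · refine Or.inl ?_
    have := PrimeSpectrum.localization_away_comap_range (Localization.Away t) t
    show p ∈ Set.range (PrimeSpectrum.comap (algebraMap A (Localization.Away t)))
    rw [this]
    exact ht

end Groth.Agent.H18BLMor
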